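import Groth.Agent.MagnetEtale.Lift
import Groth.Agent.GradedSmooth.Graded
import Mathlib

/-!
# An action of a diagonalizable monoid on an affine scheme grades its functions
-/

set_option autoImplicit false
set_option backward.isDefEq.respectTransparency false
set_option backward.isDefEq.respectTransparency.types false
set_option linter.style.haveILetI false
set_option linter.unusedSectionVars false
set_option maxHeartbeats 1000000
set_option synthInstance.maxHeartbeats 100000

universe u

open CategoryTheory CategoryTheory.Limits MonoidalCategory CartesianMonoidalCategory AlgebraicGeometry Opposite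
open scoped MonObj
open Magnet DirectSum

namespace Groth.Agent.MagnetBundle

open Groth.Agent.MagnetEtale Groth.Agent.MagnetPts

/-- Smooth algebras with an action of a sharp monoid are symmetric algebras over their invariants. -/
theorem exists_sym_of_action {S : Scheme.{u}} {P : Type} [AddCommMonoid P] [IsCancelAdd P]
    (hsharp : ∀ k : P, IsAddUnit k → k = 0) (T : Over S) [IsAffine T.left] (n : AMonS S P ⊗ T ⟶ T)
    (hone : lift (toUnit T ≫ η[AMonS S P]) (𝟙 T) ≫ n = 𝟙 T)
    (hassoc : ∀ (W : Over S) (x y : W ⟶ AMonS S P) (t : W ⟶ T), lift x (lift y t ≫ n) ≫ n = lift (x * y) t ≫ n)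
    (R : Type u) [CommRing R] [Algebra R Γ(T.left, ⊤)]
    (hR : ∀ r : R, n.left.appTop.hom (algebraMap R Γ(T.left, ⊤) r) = cst P T (algebraMap R Γ(T.left, ⊤) r))
    [Algebra.Smooth R Γ(T.left, ⊤)] :
    ∃ A₀ : Subalgebra R Γ(T.left, ⊤), (∀ a, a ∈ A₀ ↔ n.left.appTop.hom a = cst P T a) ∧
      ∃ (Q : Type u) (_ : AddCommGroup Q) (_ : Module A₀ Q), Module.Finite A₀ Q ∧ Module.Projective A₀ Q ∧
        Nonempty (Γ(T.left, ⊤) ≃ₐ[A₀] SymmetricAlgebra A₀ Q) := by
  classical
  let nu : Γ(T.left, ⊤) →+* Γ((AMonS S P ⊗ T).left, ⊤) := n.left.appTop.hom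
  let p : P → Γ(T.left, ⊤) → Γ(T.left, ⊤) := fun k a => coord T (nu a) (Multiplicative.ofAdd k)
  haveI : IsAffine (AMonS S P ⊗ T).left := isAffine_tensor P T
  -- each component is homogeneous
  have hp : ∀ (k : P) (a : Γ(T.left, ⊤)), nu (p k a) = cst P T (p k a) * E T (Multiplicative.ofAdd k) := by
    intro k a
    let W := AMonS S P ⊗ T
    let x := fst (AMonS S P) W
    let y := snd (AMonS S P) W ≫ fst (AMonS S P) T
    let t := snd (AMonS S P) W ≫ snd (AMonS S P) T
    have h1 : lift x (snd (AMonS S P) W ≫ n) ≫ n = lift (x * y) t ≫ n := by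
      rw [← hassoc, show lift y t = snd (AMonS S P) W from by
        simp only [y, t, ← comp_lift, lift_fst_snd]
        exact Category.comp_id _]
    have h2 : ∀ (z : AMonS S P ⊗ W ⟶ AMonS S P ⊗ T) (f : Γ((AMonS S P ⊗ T).left, ⊤)),
        z.left.appTop.hom f = ∑ m ∈ (coord T f).support,
          z.left.appTop.hom (cst P T (coord T f m)) * z.left.appTop.hom (E T m) := by
      intro z f
      conv_lhs => rw [eq_sum f, map_sum]
      simp only [map_mul]
    have hsnd : ∀ (z : AMonS S P ⊗ W ⟶ AMonS S P ⊗ T) (r : Γ(T.left, ⊤)),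
        z.left.appTop.hom (cst P T r) = (z ≫ snd _ _).left.appTop.hom r := fun z r => rfl
    have hfst : ∀ (z : AMonS S P ⊗ W ⟶ AMonS S P ⊗ T) (m : Multiplicative P),
        z.left.appTop.hom (E T m) = co (z ≫ fst _ _) m := fun z m => (co_comp _ _ m).symm
    have e := congrArg (fun g : AMonS S P ⊗ W ⟶ T => coord W (g.left.appTop.hom a) (Multiplicative.ofAdd k)) h1
    simp only [Over.comp_left, Scheme.Hom.comp_appTop, CommRingCat.hom_comp, RingHom.comp_apply] at e
    change coord W ((lift x (snd (AMonS S P) W ≫ n)).left.appTop.hom (nu a)) _ =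
      coord W ((lift (x * y) t).left.appTop.hom (nu a)) _ at e
    rw [h2, h2 (lift (x * y) t)] at e
    simp only [hsnd, hfst, lift_fst, lift_snd, co_mul] at e
    have e3 : ∀ m, (snd (AMonS S P) W ≫ n).left.appTop.hom (coord T (nu a) m) * co x m =
        cst P W (nu (coord T (nu a) m)) * E W m := fun m => rfl
    have e4 : ∀ m, t.left.appTop.hom (coord T (nu a) m) * (co x m * co y m) =
        cst P W (cst P T (coord T (nu a) m) * E T m) * E W m := by
      intro m
      rw [map_mul, mul_comm (co x m), ← mul_assoc,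
        show co y m = cst P W (E T m) from co_comp _ _ m]
      rfl
    simp only [e3, e4, coord_sum_mul, Finsupp.finsetSum_apply, Finsupp.single_apply, Finset.sum_ite_eq'] at e
    show nu (coord T (nu a) (Multiplicative.ofAdd k)) = cst P T (coord T (nu a) (Multiplicative.ofAdd k)) * _
    by_cases hk : Multiplicative.ofAdd k ∈ (coord T (nu a)).support
    · rw [if_pos hk, if_pos hk] at e
      exact e
    · rw [Finsupp.notMem_support_iff.1 hk, map_zero, map_zero, zero_mul]
  have hsum : ∀ a : Γ(T.left, ⊤), ∑ m ∈ (coord T (nu a)).support, coord T (nu a) m = a := by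
    intro a
    have e := congrArg (fun g : T ⟶ T => g.left.appTop.hom a) hone
    simp only [Over.comp_left, Scheme.Hom.comp_appTop, CommRingCat.hom_comp, RingHom.comp_apply, Over.id_left,
      Scheme.Hom.id_appTop, CommRingCat.hom_id, RingHom.id_apply] at e
    change (lift (toUnit T ≫ η[AMonS S P]) (𝟙 T)).left.appTop.hom (nu a) = a at e
    conv_rhs => rw [← e, eq_sum (nu a), map_sum]
    refine Finset.sum_congr rfl fun m _ => ?_
    have h1 : (lift (toUnit T ≫ η[AMonS S P]) (𝟙 T)).left.appTop.hom (cst P T (coord T (nu a) m)) =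
        coord T (nu a) m := by
      show ((lift (toUnit T ≫ η[AMonS S P]) (𝟙 T)) ≫ snd _ _).left.appTop.hom _ = _
      rw [lift_snd, Over.id_left, Scheme.Hom.id_appTop]
      rfl
    have h2 : (lift (toUnit T ≫ η[AMonS S P]) (𝟙 T)).left.appTop.hom (E T m) = 1 := by
      rw [← co_comp, lift_fst, co_one]
    rw [map_mul, h1, h2, mul_one]
  -- finitely many degrees suffice
  obtain ⟨G, hG⟩ := (inferInstance : Algebra.FiniteType R Γ(T.left, ⊤)).out
  let s : Finset P := G.biUnion fun g => (coord T (nu g)).support.image Multiplicative.toAdd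
  let P' : AddSubmonoid P := AddSubmonoid.closure (s : Set P)
  haveI : AddMonoid.FG P' := (AddMonoid.fg_iff_addSubmonoid_fg _).2 ⟨s, rfl⟩
  have hsharp' : ∀ k : P', IsAddUnit k → k = 0 := fun k hk =>
    Subtype.ext (hsharp (k : P) (hk.map P'.subtype))
  let 𝒜 : P' → Submodule R Γ(T.left, ⊤) := fun k =>
    { carrier := {a | nu a = cst P T a * E T (Multiplicative.ofAdd (k : P))}
      add_mem' := fun {a b} ha hb => by
        simp only [Set.mem_setOf_eq, map_add, add_mul] at ha hb ⊢
        rw [ha, hb]
      zero_mem' := by simp only [Set.mem_setOf_eq, map_zero, zero_mul]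
      smul_mem' := fun r a ha => by
        simp only [Set.mem_setOf_eq, Algebra.smul_def, map_mul] at ha ⊢
        rw [ha, show nu (algebraMap R Γ(T.left, ⊤) r) = cst P T (algebraMap R Γ(T.left, ⊤) r) from hR r, mul_assoc] }
  haveI : SetLike.GradedMonoid 𝒜 :=
    { one_mem := by
        show nu 1 = cst P T 1 * E T (Multiplicative.ofAdd ((0 : P') : P))
        rw [map_one, map_one, one_mul, AddSubmonoid.coe_zero, ofAdd_zero]
        exact (map_one (co (fst (AMonS S P) T))).symm
      mul_mem := fun i j a b ha hb => by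
        show nu (a * b) = cst P T (a * b) * E T (Multiplicative.ofAdd ((i + j : P') : P))
        rw [map_mul, map_mul, show nu a = _ from ha, show nu b = _ from hb, mul_mul_mul_comm, E_mul,
          AddSubmonoid.coe_add, ofAdd_add] }
  have hint : DirectSum.IsInternal 𝒜 := by
    refine ⟨?_, ?_⟩
    · intro v w hvw
      have hcoef : ∀ (v : ⨁ k, 𝒜 k) (k : P'),
          coord T (nu (DirectSum.coeAddMonoidHom 𝒜 v)) (Multiplicative.ofAdd (k : P)) = (v k : Γ(T.left, ⊤)) := by
        intro v k
        induction v using DirectSum.induction_on with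
        | zero => simp only [map_zero, Finsupp.zero_apply, DirectSum.zero_apply, Submodule.coe_zero]
        | add a b ha hb => simp only [map_add, Finsupp.add_apply, ha, hb, DirectSum.add_apply, Submodule.coe_add]
        | of i a =>
          rw [DirectSum.coeAddMonoidHom_of, show nu (a : Γ(T.left, ⊤)) = _ from a.2, coord_mul, Finsupp.single_apply,
            DirectSum.coe_of_apply]
          by_cases hik : i = k
          · subst hik
            rw [if_pos rfl, if_pos rfl]
          · rw [if_neg hik, if_neg fun h => hik (Subtype.ext (Multiplicative.ofAdd.injective h))]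
            rfl
      refine DFinsupp.ext fun k => Subtype.ext ?_
      rw [← hcoef v k, ← hcoef w k, hvw]
    · have hall : (DirectSum.coeAlgHom 𝒜).range = ⊤ := by
        rw [eq_top_iff, ← hG, Algebra.adjoin_le_iff]
        intro g hg
        rw [← hsum g]
        refine sum_mem fun m hm => ?_
        have hm' : Multiplicative.toAdd m ∈ P' :=
          AddSubmonoid.subset_closure (Finset.mem_biUnion.2 ⟨g, hg, Finset.mem_image_of_mem _ hm⟩)
        exact ⟨DirectSum.of (fun k => 𝒜 k) ⟨_, hm'⟩ ⟨_, hp (Multiplicative.toAdd m) g⟩, DirectSum.coeAlgHom_of _ _ _⟩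
      intro a
      obtain ⟨v, hv⟩ : a ∈ (DirectSum.coeAlgHom 𝒜).range := hall ▸ Algebra.mem_top
      exact ⟨v, hv⟩
  letI : DirectSum.Decomposition 𝒜 := hint.chooseDecomposition
  letI : GradedAlgebra 𝒜 := { }
  refine ⟨SetLike.GradeZero.subalgebra 𝒜, fun a => ?_,
    GradedSmooth.exists_algEquiv_symmetricAlgebra hsharp' 𝒜⟩
  show nu a = cst P T a * E T (Multiplicative.ofAdd ((0 : P') : P)) ↔ nu a = cst P T a
  rw [AddSubmonoid.coe_zero, ofAdd_zero, show E T (1 : Multiplicative P) = 1 from map_one _, mul_one]

end Groth.Agent.MagnetBundle
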