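import Groth.Agent.MagnetBundle.Scale
import Groth.Agent.MagnetAttr.OpenImm
import Groth.Agent.MagnetAttrRep.Pure

/-!
# The image of the attractor of an invariant open subscheme
-/

set_option autoImplicit false
set_option backward.isDefEq.respectTransparency false
set_option backward.isDefEq.respectTransparency.types false
set_option linter.style.haveILetI false
set_option maxHeartbeats 1000000
set_option synthInstance.maxHeartbeats 100000

universe u

open CategoryTheory CategoryTheory.Limits MonoidalCategory CartesianMonoidalCategory AlgebraicGeometry Opposite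
open scoped MonObj
open Magnet

namespace Groth.Agent.MagnetBundle

open Groth.Agent.MagnetPts Groth.Agent.MagnetAttr

variable {S : Scheme.{u}} {M : Type} [AddCommGroup M]

theorem isAddUnit_iff_mem_unitFace {N : AddSubmonoid M} (n : N) : IsAddUnit n ↔ (n : M) ∈ unitFace N := by
  refine ⟨fun h => ?_, fun ⟨_, y, hy, e⟩ => IsAddUnit.of_add_eq_zero ⟨y, hy⟩ (Subtype.ext e)⟩
  obtain ⟨b, hb⟩ := h.exists_neg
  exact ⟨n.2, b, b.2, congrArg Subtype.val hb⟩

theorem exists_point (N : AddSubmonoid M) (T : Over S) :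
    ∃ e : T ⟶ AMonS S N, (∀ n, co e n = unitInd Γ(T.left, ⊤) N n) ∧
      (∀ n : Multiplicative N, ((n.toAdd : N) : M) ∈ unitFace N → co e n = 1) ∧
      (∀ n : Multiplicative N, ((n.toAdd : N) : M) ∉ unitFace N → co e n = 0) := by
  classical
  obtain ⟨e, he⟩ := exists_co (S := S) (T := T) (P := N) (unitInd Γ(T.left, ⊤) N)
  refine ⟨e, he, fun n hn => ?_, fun n hn => ?_⟩
  · rw [he]; exact if_pos ((isAddUnit_iff_mem_unitFace _).2 hn)
  · rw [he]; exact if_neg fun h => hn ((isAddUnit_iff_mem_unitFace _).1 h)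

theorem attrToX_attrFace {N : AddSubmonoid M} {X : Over S} (a : MonAct (AMonS S M) X) {T : Over S}
    (φ : (attr a N).obj (op T)) (e : T ⟶ AMonS S N)
    (h1 : ∀ n : Multiplicative N, ((n.toAdd : N) : M) ∈ unitFace N → co e n = 1)
    (h0 : ∀ n : Multiplicative N, ((n.toAdd : N) : M) ∉ unitFace N → co e n = 0) :
    lift e (𝟙 T) ≫ φ.1 =
      (attrToX a (unitFace N)).app (op T) ((attrFace a (isFace_unitFace N)).app (op T) φ) := by
  have h := MagnetAttrRep.attrToX_attrMap a (unitFace_le N) T ((attrFace a (isFace_unitFace N)).app (op T) φ)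
  rw [attrMap_attrFace a (isFace_unitFace N) e h1 h0 φ] at h
  rw [← h]
  show _ = lift (toUnit T ≫ η[AMonS S N]) (𝟙 T) ≫ lift _ _ ≫ φ.1
  rw [comp_lift_assoc, MonObj.comp_mul, lift_fst, lift_snd, lift_snd_assoc, Category.id_comp, ← Hom.one_def,
    one_mul]

variable [AddGroup.FG M]

/-- The attractor of an invariant open subscheme consists of the points with limit in it. -/
theorem range_attr (N : AddSubmonoid M) {U X : Over S} (aU : MonAct (AMonS S M) U) (aX : MonAct (AMonS S M) X)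
    (f : U ⟶ X) (hf : MonAct.IsEquivariant aU aX f) [IsOpenImmersion f.left]
    {ZU ZX : Over S} (eU : (attr aU N).RepresentableBy ZU) (eX : (attr aX N).RepresentableBy ZX) :
    ∃ k : ZU ⟶ ZX, IsOpenImmersion k.left ∧
      Set.range k.left = ((attrToX aX (unitFace N)).app (op ZX)
        ((attrFace aX (isFace_unitFace N)).app (op ZX) (eX.homEquiv (𝟙 ZX)))).left ⁻¹' Set.range f.left := by
  haveI : Mono f := (Over.forget S).mono_of_mono_map (inferInstanceAs (Mono f.left))
  let k : ZU ⟶ ZX := eX.homEquiv.symm ((MonAct.eqvHom.postcomp (subAct S M N) f hf).app (op ZU) (eU.homEquiv (𝟙 ZU)))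
  have hk : ∀ (T : Over S) (z : T ⟶ ZU),
      eX.homEquiv (z ≫ k) = (MonAct.eqvHom.postcomp (subAct S M N) f hf).app (op T) (eU.homEquiv z) := by
    intro T z
    rw [eX.homEquiv_comp, Equiv.apply_symm_apply, eU.homEquiv_eq z]
    exact (ConcreteCategory.congr_hom ((MonAct.eqvHom.postcomp (subAct S M N) f hf).naturality z.op) _).symm
  refine ⟨k, isOpenImmersion_attr N aU aX f hf eU eX k hk, ?_⟩
  set u0 := eX.homEquiv (𝟙 ZX) with hu0
  have hnat : ∀ {T : Over S} (z : T ⟶ ZX), (eX.homEquiv z).1 = (AMonS S N ◁ z) ≫ u0.1 := fun {T} z => by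
    rw [eX.homEquiv_eq z]
    rfl
  obtain ⟨e, he, h1, h0⟩ := exists_point N ZX
  rw [← attrToX_attrFace aX u0 e h1 h0]
  let V : (AMonS S N ⊗ ZX).left.Opens := u0.1.left ⁻¹ᵁ f.left.opensRange
  have hV : ∀ (W : Over S) (g : W ⟶ AMonS S M) (x : W ⟶ AMonS S N) (z : W ⟶ ZX),
      Set.range (lift ((g ≫ AMonS.map S N.subtype) * x) z).left ⊆ (V : Set _) →
        Set.range (lift x z).left ⊆ (V : Set _) := by
    intro W g x z h
    have heq := (MonAct.mem_eqvHom_iff u0.1).1 u0.2 W g x z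
    simp only [subAct, MonAct.lift_restrict_act, MonAct.lift_regular_act] at heq
    obtain ⟨w, hw⟩ : ∃ w : W ⟶ U, w ≫ f = lift g (lift x z ≫ u0.1) ≫ aX.act := by
      rw [← heq]
      have hr : Set.range (lift ((g ≫ AMonS.map S N.subtype) * x) z ≫ u0.1).left ⊆ Set.range f.left := by
        rintro _ ⟨q, rfl⟩
        exact h ⟨q, rfl⟩
      exact ⟨Over.homMk (IsOpenImmersion.lift f.left _ hr) (by
          rw [← Over.w f, IsOpenImmersion.lift_fac_assoc]; exact Over.w _),
        Over.OverMorphism.ext (IsOpenImmersion.lift_fac _ _ hr)⟩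
    obtain ⟨g', hg'⟩ := exists_co (S := S) (T := W) (P := M)
      ((co g).comp (invMonoidHom : Multiplicative M →* Multiplicative M))
    have hinv : g' * g = 1 := co_ext fun m => by
      rw [co_mul, hg', Hom.one_def, co_one]
      show co g m⁻¹ * co g m = 1
      rw [← map_mul, inv_mul_cancel, map_one]
    have : lift x z ≫ u0.1 = (lift g' w ≫ aU.act) ≫ f := by
      rw [MonAct.isEquivariant_iff] at hf
      rw [Category.assoc, hf, hw, ← MonAct.lift_mul_act, hinv, MonAct.lift_one_act]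
    rintro _ ⟨q, rfl⟩
    show u0.1.left ((lift x z).left q) ∈ f.left.opensRange
    rw [← Scheme.Hom.comp_apply, ← Over.comp_left, this]
    exact ⟨(lift g' w ≫ aU.act).left q, rfl⟩
  refine Set.Subset.antisymm ?_ fun w hw => ?_
  · rintro _ ⟨q, rfl⟩
    have hk1 : (AMonS S N ◁ k) ≫ u0.1 = (eU.homEquiv (𝟙 ZU)).1 ≫ f := by
      rw [← hnat, ← Category.id_comp k, hk]
      rfl
    have hk2 : (k ≫ lift e (𝟙 ZX)) ≫ u0.1 = (lift (k ≫ e) (𝟙 ZU) ≫ (eU.homEquiv (𝟙 ZU)).1) ≫ f := by
      rw [Category.assoc (lift _ _), ← hk1, lift_whiskerLeft_assoc, Category.id_comp, comp_lift, Category.comp_id]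
    show (lift e (𝟙 ZX) ≫ u0.1).left (k.left q) ∈ Set.range f.left
    rw [← Scheme.Hom.comp_apply, ← Over.comp_left, ← Category.assoc, hk2]
    exact ⟨(lift (k ≫ e) (𝟙 ZU) ≫ (eU.homEquiv (𝟙 ZU)).1).left q, rfl⟩
  · let W := (lift e (𝟙 ZX) ≫ u0.1).left ⁻¹ᵁ f.left.opensRange
    let Wo : Over S := Over.mk (W.ι ≫ ZX.hom)
    let i : Wo ⟶ ZX := Over.homMk W.ι rfl
    have hrange : Set.range ((AMonS S N ◁ i) ≫ u0.1).left ⊆ Set.range f.left := by
      rintro _ ⟨q, rfl⟩
      have hq : (AMonS S N ◁ i).left q ∈ V := by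
        refine mem_of_section_mem N ZX e he V hV _ ?_
        have e1 : (snd (AMonS S N) ZX).left ((AMonS S N ◁ i).left q) = i.left ((snd (AMonS S N) Wo).left q) :=
          congrArg (fun t : AMonS S N ⊗ Wo ⟶ ZX => t.left q) (whiskerLeft_snd (AMonS S N) i)
        rw [e1]
        exact ((snd (AMonS S N) Wo).left q).2
      exact hq
    let φ : AMonS S N ⊗ Wo ⟶ U := Over.homMk (IsOpenImmersion.lift f.left _ hrange) (by
      rw [← Over.w f, IsOpenImmersion.lift_fac_assoc]; exact Over.w _)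
    have hφ : φ ≫ f = (AMonS S N ◁ i) ≫ u0.1 := Over.OverMorphism.ext (IsOpenImmersion.lift_fac _ _ hrange)
    have hφe : MonAct.IsEquivariant ((subAct S M N).prod (MonAct.trivial _ Wo)) aU φ := by
      rw [MonAct.mem_eqvHom_iff]
      intro T' g b t
      rw [← cancel_mono f, Category.assoc, hφ, ← hnat]
      rw [(MonAct.mem_eqvHom_iff _).1 (eX.homEquiv i).2, Category.assoc,
        (MonAct.isEquivariant_iff ..).1 hf, Category.assoc, hφ, hnat]
    let r : Wo ⟶ ZU := eU.homEquiv.symm ⟨φ, hφe⟩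
    have hr : r ≫ k = i := eX.homEquiv.injective (by
      rw [hk, Equiv.apply_symm_apply]
      exact Subtype.ext (hφ.trans (hnat i).symm))
    exact ⟨r.left ⟨w, hw⟩, congrArg (fun t : Wo ⟶ ZX => t.left ⟨w, hw⟩) hr⟩

/-- The restriction of an action to an invariant open subscheme. -/
theorem exists_act_open {X : Over S} (a : MonAct (AMonS S M) X) (V : X.left.Opens)
    (hV : (snd (AMonS S M) X).left ⁻¹ᵁ V ≤ a.act.left ⁻¹ᵁ V) :
    ∃ aV : MonAct (AMonS S M) (Over.mk (V.ι ≫ X.hom)),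
      MonAct.IsEquivariant aV a (Over.homMk V.ι rfl : Over.mk (V.ι ≫ X.hom) ⟶ X) := by
  let VX : Over S := Over.mk (V.ι ≫ X.hom)
  let f : VX ⟶ X := Over.homMk V.ι rfl
  haveI : Mono f := (Over.forget S).mono_of_mono_map (inferInstanceAs (Mono V.ι))
  have hr : Set.range ((AMonS S M ◁ f) ≫ a.act).left ⊆ Set.range V.ι := by
    rw [Scheme.Opens.range_ι]
    rintro _ ⟨q, rfl⟩
    refine hV (show (AMonS S M ◁ f).left q ∈ (snd (AMonS S M) X).left ⁻¹ᵁ V from ?_)
    show (snd (AMonS S M) X).left ((AMonS S M ◁ f).left q) ∈ V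
    rw [show (snd (AMonS S M) X).left ((AMonS S M ◁ f).left q) = f.left ((snd (AMonS S M) VX).left q) from
      congrArg (fun t : AMonS S M ⊗ VX ⟶ X => t.left q) (whiskerLeft_snd (AMonS S M) f)]
    exact ((snd (AMonS S M) VX).left q).2
  let act : AMonS S M ⊗ VX ⟶ VX := Over.homMk (IsOpenImmersion.lift V.ι _ hr) (by
    show _ ≫ V.ι ≫ X.hom = _
    rw [IsOpenImmersion.lift_fac_assoc]; exact Over.w _)
  have hact : act ≫ f = (AMonS S M ◁ f) ≫ a.act := Over.OverMorphism.ext (IsOpenImmersion.lift_fac _ _ hr)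
  refine ⟨MonAct.mk' act (fun T x => ?_) (fun T g h x => ?_), ?_⟩
  · rw [← cancel_mono f, Category.assoc, hact, lift_whiskerLeft_assoc, MonAct.lift_one_act]
  · simp only [← cancel_mono f, Category.assoc, hact, lift_whiskerLeft_assoc, MonAct.lift_mul_act]
  · rw [MonAct.isEquivariant_iff]
    intro T g x
    show lift g x ≫ act ≫ f = _
    rw [hact, lift_whiskerLeft_assoc]

end Groth.Agent.MagnetBundle
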