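import Mathlib

/-!
# Symmetric algebras along an isomorphism of base rings
-/

set_option autoImplicit false

universe u

namespace Groth.Agent.MagnetBundle

theorem exists_sym_transport {B B' A : Type u} [CommRing B] [CommRing B'] [CommRing A] [Algebra B' A] (ψ : B ≃+* B')
    (φ : B →+* A) (h : ∀ b, algebraMap B' A (ψ b) = φ b) (Q : Type u) [AddCommGroup Q] [Module B' Q]
    [Module.Finite B' Q] [Module.Projective B' Q] (e : A ≃ₐ[B'] SymmetricAlgebra B' Q) :
    ∃ (P : Type u) (_ : AddCommGroup P) (_ : Module B P), Module.Finite B P ∧ Module.Projective B P ∧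
      ∃ g : A ≃+* SymmetricAlgebra B P, ∀ b, g (φ b) = algebraMap B (SymmetricAlgebra B P) b := by
  letI : Module B Q := Module.compHom Q ψ.toRingHom
  letI := RingHomInvPair.of_ringEquiv ψ
  letI := RingHomInvPair.symm (ψ : B →+* B') (ψ.symm : B' →+* B)
  let l : Q ≃ₛₗ[(ψ : B →+* B')] Q :=
    { AddEquiv.refl Q with map_smul' := fun b q => rfl }
  refine ⟨Q, _, _, Module.Finite.of_surjective l.symm.toLinearMap l.symm.surjective, Module.Projective.of_equiv l.symm, ?_⟩
  letI aB : Algebra B (SymmetricAlgebra B' Q) :=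
    ((algebraMap B' (SymmetricAlgebra B' Q)).comp ψ.toRingHom).toAlgebra
  letI aB' : Algebra B' (SymmetricAlgebra B Q) :=
    ((algebraMap B (SymmetricAlgebra B Q)).comp ψ.symm.toRingHom).toAlgebra
  let l1 : Q →ₗ[B] SymmetricAlgebra B' Q :=
    { toFun := SymmetricAlgebra.ι B' Q
      map_add' := map_add _
      map_smul' := fun b q => by
        rw [RingHom.id_apply]
        show SymmetricAlgebra.ι B' Q (ψ b • q) = _
        rw [map_smul, Algebra.smul_def, Algebra.smul_def]
        rfl }
  let l2 : Q →ₗ[B'] SymmetricAlgebra B Q :=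
    { toFun := SymmetricAlgebra.ι B Q
      map_add' := map_add _
      map_smul' := fun b q => by
        have hb : b • q = (ψ.symm b : B) • q := by
          show b • q = ψ (ψ.symm b) • q
          rw [RingEquiv.apply_symm_apply]
        rw [RingHom.id_apply, hb, map_smul, Algebra.smul_def, Algebra.smul_def]
        rfl }
  let f1 : SymmetricAlgebra B Q →ₐ[B] SymmetricAlgebra B' Q := SymmetricAlgebra.lift l1
  let f2 : SymmetricAlgebra B' Q →ₐ[B'] SymmetricAlgebra B Q := SymmetricAlgebra.lift l2
  have c1 : ∀ b, f1 (algebraMap B _ b) = algebraMap B' _ (ψ b) := fun b => f1.commutes b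
  have c2 : ∀ b, f2 (algebraMap B' _ b) = algebraMap B _ (ψ.symm b) := fun b => f2.commutes b
  let g1 : SymmetricAlgebra B Q →ₐ[B] SymmetricAlgebra B Q :=
    { f2.toRingHom.comp f1.toRingHom with
      commutes' := fun b => by
        show f2 (f1 (algebraMap B _ b)) = _
        rw [c1, c2, RingEquiv.symm_apply_apply] }
  let g2 : SymmetricAlgebra B' Q →ₐ[B'] SymmetricAlgebra B' Q :=
    { f1.toRingHom.comp f2.toRingHom with
      commutes' := fun b => by
        show f1 (f2 (algebraMap B' _ b)) = _
        rw [c2, c1, RingEquiv.apply_symm_apply] }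
  have e1 : g1 = AlgHom.id B _ := SymmetricAlgebra.algHom_ext (LinearMap.ext fun q => by
    show f2 (f1 (SymmetricAlgebra.ι B Q q)) = SymmetricAlgebra.ι B Q q
    rw [SymmetricAlgebra.lift_ι_apply]
    exact SymmetricAlgebra.lift_ι_apply _ _)
  have e2 : g2 = AlgHom.id B' _ := SymmetricAlgebra.algHom_ext (LinearMap.ext fun q => by
    show f1 (f2 (SymmetricAlgebra.ι B' Q q)) = SymmetricAlgebra.ι B' Q q
    rw [SymmetricAlgebra.lift_ι_apply]
    exact SymmetricAlgebra.lift_ι_apply _ _)
  let σ : SymmetricAlgebra B' Q ≃+* SymmetricAlgebra B Q :=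
    { f2.toRingHom with
      invFun := f1
      left_inv := fun x => AlgHom.congr_fun e2 x
      right_inv := fun x => AlgHom.congr_fun e1 x }
  refine ⟨e.toRingEquiv.trans σ, fun b => ?_⟩
  show f2 (e (φ b)) = _
  rw [← h, e.commutes, c2, RingEquiv.symm_apply_apply]

end Groth.Agent.MagnetBundle
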