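import Groth.Agent.MagnetBundle.Grade
import Groth.Agent.MagnetBundle.Range
import Groth.Agent.MagnetBundle.Transport
import Groth.Agent.MagnetLift.Smooth
import Groth.Agent.MagnetAttrRep.Main
import Groth.Agent.MagnetAtlas.Range

/-!
# The attractor is a vector bundle over the attractor of the unit face
-/

set_option autoImplicit false
set_option backward.isDefEq.respectTransparency false
set_option backward.isDefEq.respectTransparency.types false
set_option linter.style.haveILetI false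
set_option linter.unusedSimpArgs false
set_option maxHeartbeats 1000000
set_option synthInstance.maxHeartbeats 100000

universe u

open CategoryTheory CategoryTheory.Limits MonoidalCategory CartesianMonoidalCategory AlgebraicGeometry Opposite
open scoped MonObj
open Magnet

namespace Groth.Agent.MagnetBundle

open Groth.Agent.MagnetPts Groth.Agent.MagnetAttr

theorem nat_app {C : Type*} [Category.{u} C] {F G : Cᵒᵖ ⥤ Type u} (ν : F ⟶ G) {A B : C} (g : A ⟶ B)
    (θ : F.obj (op B)) : ν.app (op A) (F.map g.op θ) = G.map g.op (ν.app (op B) θ) :=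
  ConcreteCategory.congr_hom (ν.naturality g.op) θ

set_option maxHeartbeats 2000000 in
/-- The monoid of a magnet modulo its units acts on the attractor over the attractor of the units. -/
theorem exists_action {S : Scheme.{u}} {M : Type} [AddCommGroup M] {X : Over S} (a : MonAct (AMonS S M) X)
    (N : AddSubmonoid M) {ZN Z0 : Over S} (eN : (attr a N).RepresentableBy ZN)
    (e0 : (attr a (unitFace N)).RepresentableBy Z0)
    (j : ZN ⟶ Z0) (hj : ∀ (T : Over S) (z : T ⟶ ZN),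
      e0.homEquiv (z ≫ j) = (attrFace a (isFace_unitFace N)).app (op T) (eN.homEquiv z)) :
    ∃ (P : Type) (_ : AddCommMonoid P) (_ : IsCancelAdd P) (nZ : AMonS S P ⊗ ZN ⟶ ZN) (s : Z0 ⟶ ZN)
      (eP : ZN ⟶ AMonS S P), (∀ k : P, IsAddUnit k → k = 0) ∧ s ≫ j = 𝟙 Z0 ∧ nZ ≫ j = snd _ _ ≫ j ∧
      j ≫ s = lift eP (𝟙 ZN) ≫ nZ ∧ (∀ (T : Over S) (t : T ⟶ ZN), lift (toUnit T ≫ η[AMonS S P]) t ≫ nZ = t) ∧
      ∀ (T : Over S) (x y : T ⟶ AMonS S P) (t : T ⟶ ZN), lift x (lift y t ≫ nZ) ≫ nZ = lift (x * y) t ≫ nZ := by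
  classical
  have hF := isFace_unitFace N
  let u0 := eN.homEquiv (𝟙 ZN)
  let v0 := e0.homEquiv (𝟙 Z0)
  have hju : e0.homEquiv j = (attrFace a hF).app (op ZN) u0 := by rw [← hj, Category.id_comp]
  -- the sharp quotient
  let Zg : AddSubgroup M := MagnetAtlas.unitGroup N
  let P : AddSubmonoid (M ⧸ Zg) := N.map (QuotientAddGroup.mk' Zg)
  let q : N →+ P := ((QuotientAddGroup.mk' Zg).comp N.subtype).codRestrict P fun n => ⟨n, n.2, rfl⟩
  have hq0 : ∀ n : N, q n = 0 ↔ (n : M) ∈ unitFace N := fun n =>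
    Subtype.ext_iff.trans (QuotientAddGroup.eq_zero_iff _)
  have hqsurj : Function.Surjective q := by
    rintro ⟨_, n, hn, rfl⟩
    exact ⟨⟨n, hn⟩, rfl⟩
  have hsharp : ∀ k : P, IsAddUnit k → k = 0 := by
    intro k hk
    obtain ⟨b, hb⟩ := hk.exists_neg
    obtain ⟨n, rfl⟩ := hqsurj k
    obtain ⟨m, rfl⟩ := hqsurj b
    rw [← map_add, hq0] at hb
    exact (hq0 n).2 (hF.mem_of_add_mem n n.2 m m.2 hb).1
  haveI : IsCancelAdd P := Function.Injective.isCancelAdd (fun k : P => (k : M ⧸ Zg)) Subtype.val_injective (fun _ _ => rfl)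
  let qm : AMonS S P ⟶ AMonS S N := AMonS.map S q
  have hqF : ∀ {T : Over S} (y : T ⟶ AMonS S P),
      (y ≫ qm) ≫ AMonS.map S (AddSubmonoid.inclusion hF.le) = toUnit T ≫ η[AMonS S (unitFace N)] := fun {T} y =>
    co_ext fun n => by
      rw [co_one, co_map, co_map, toAdd_ofAdd, (hq0 _).2 n.toAdd.2, ofAdd_zero, map_one]
  let nZ : AMonS S P ⊗ ZN ⟶ ZN := eN.homEquiv.symm
    (scale a (fst (AMonS S P) ZN ≫ qm) ((attr a N).map (snd (AMonS S P) ZN).op u0))
  have hnZ : ∀ {T : Over S} (x : T ⟶ AMonS S P) (t : T ⟶ ZN),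
      eN.homEquiv (lift x t ≫ nZ) = scale a (x ≫ qm) (eN.homEquiv t) := by
    intro T x t
    rw [eN.homEquiv_comp, Equiv.apply_symm_apply, map_scale, lift_fst_assoc, eN.homEquiv_eq t,
      ← Functor.map_comp_apply, ← op_comp, lift_snd]
  have hnj : nZ ≫ j = snd (AMonS S P) ZN ≫ j := by
    apply e0.homEquiv.injective
    rw [hj, hj, Equiv.apply_symm_apply, attrFace_scale a hF _ (hqF _), eN.homEquiv_eq (snd (AMonS S P) ZN)]
  let s : Z0 ⟶ ZN := eN.homEquiv.symm ((attrMap a hF.le).app (op Z0) v0)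
  have hsj : s ≫ j = 𝟙 Z0 := by
    apply e0.homEquiv.injective
    rw [hj, Equiv.apply_symm_apply]
    exact ConcreteCategory.congr_hom (NatTrans.congr_app (attrMap_comp_attrFace a hF) (op Z0)) v0
  obtain ⟨eP, heP⟩ := exists_co (S := S) (T := ZN) (P := P) (unitInd Γ(ZN.left, ⊤) P)
  have hjs : j ≫ s = lift eP (𝟙 ZN) ≫ nZ := by
    apply eN.homEquiv.injective
    rw [eN.homEquiv_comp, Equiv.apply_symm_apply, hnZ, ← attrMap_attrFace a hF (eP ≫ qm)]
    · rw [← hju, e0.homEquiv_eq j]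
      exact (nat_app (attrMap a hF.le) j v0).symm
    · intro n hn
      rw [co_map, heP]
      exact if_pos (by rw [toAdd_ofAdd, (hq0 _).2 hn]; exact isAddUnit_zero)
    · intro n hn
      rw [co_map, heP]
      exact if_neg fun h => hn ((hq0 _).1 (hsharp _ h))
  have hone : ∀ {T : Over S} (t : T ⟶ ZN), lift (toUnit T ≫ η[AMonS S P]) t ≫ nZ = t := fun {T} t => by
    apply eN.homEquiv.injective
    rw [hnZ, Category.assoc, IsMonHom.one_hom, scale_one]
  have hassoc : ∀ {T : Over S} (x y : T ⟶ AMonS S P) (t : T ⟶ ZN),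
      lift x (lift y t ≫ nZ) ≫ nZ = lift (x * y) t ≫ nZ := fun {T} x y t => by
    apply eN.homEquiv.injective
    rw [hnZ, hnZ, hnZ, scale_scale, ← MonObj.mul_comp]
  exact ⟨P, inferInstance, inferInstance, nZ, s, eP, hsharp, hsj, hnj, hjs, fun _ t => hone t,
    fun _ x y t => hassoc x y t⟩

theorem exists_bundle (S : Scheme.{u}) (M : Type) [AddCommGroup M] [AddGroup.FG M] {X : Over S} [Smooth X.hom]
    (a : MonAct (AMonS S M) X)
    (hlin : ∀ x : X.left, ∃ V : X.left.Opens, x ∈ V ∧ IsAffineHom (V.ι ≫ X.hom) ∧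
      (snd (AMonS S M) X).left ⁻¹ᵁ V ≤ a.act.left ⁻¹ᵁ V)
    (N : AddSubmonoid M) {ZN Z0 : Over S}
    (eN : (attr a N).RepresentableBy ZN) (e0 : (attr a (unitFace N)).RepresentableBy Z0)
    (j : ZN ⟶ Z0) (hj : ∀ (T : Over S) (z : T ⟶ ZN),
      e0.homEquiv (z ≫ j) = (attrFace a (isFace_unitFace N)).app (op T) (eN.homEquiv z))
    (z : Z0.left) :
    ∃ (W : Z0.left.Opens) (hW : IsAffineOpen W), z ∈ W ∧
      ∃ (P : Type u) (_ : AddCommGroup P) (_ : Module Γ(Z0.left, W) P),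
        Module.Finite Γ(Z0.left, W) P ∧ Module.Projective Γ(Z0.left, W) P ∧
        ∃ e : (↑(j.left ⁻¹ᵁ W) : Scheme.{u}) ≅ Spec (CommRingCat.of (SymmetricAlgebra Γ(Z0.left, W) P)),
          e.hom ≫ Spec.map (CommRingCat.ofHom (algebraMap Γ(Z0.left, W) (SymmetricAlgebra Γ(Z0.left, W) P))) =
            (j.left ∣_ W) ≫ hW.isoSpec.hom := by
  classical
  have hF := isFace_unitFace N
  let u0 := eN.homEquiv (𝟙 ZN)
  let v0 := e0.homEquiv (𝟙 Z0)
  let ps : Z0 ⟶ X := (attrToX a (unitFace N)).app (op Z0) v0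
  have hju : e0.homEquiv j = (attrFace a hF).app (op ZN) u0 := by rw [← hj, Category.id_comp]
  have hlim : (attrToX a (unitFace N)).app (op ZN) ((attrFace a hF).app (op ZN) u0) = j ≫ ps := by
    rw [← hju, e0.homEquiv_eq j]
    exact MagnetAtlas.app_map' (attrToX a (unitFace N)) j v0
  -- invariant neighbourhood affine over the base
  obtain ⟨V, hxV, hVaff, hVinv⟩ := hlin (ps.left z)
  obtain ⟨aV, hf⟩ := exists_act_open a V hVinv
  let VX : Over S := Over.mk (V.ι ≫ X.hom)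
  let f : VX ⟶ X := Over.homMk V.ι rfl
  haveI : IsOpenImmersion f.left := inferInstanceAs (IsOpenImmersion V.ι)
  haveI : IsAffineHom VX.hom := hVaff
  obtain ⟨ZV, iV, eV, hiV, -⟩ := MagnetAttrRep.exists_representable aV N
  obtain ⟨ZV0, iV0, eV0, hiV0, -⟩ := MagnetAttrRep.exists_representable aV (unitFace N)
  haveI := hiV
  haveI := hiV0
  haveI : IsAffineHom ZV.hom := by rw [← Over.w iV]; infer_instance
  haveI : IsAffineHom ZV0.hom := by rw [← Over.w iV0]; infer_instance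
  obtain ⟨kN, hkN, hrN⟩ := range_attr N aV a f hf eV eN
  obtain ⟨k0, hk0, hr0⟩ := range_attr (unitFace N) aV a f hf eV0 e0
  haveI := hkN
  haveI := hk0
  have hunit : ∀ n : unitFace N, (n : M) ∈ unitFace (unitFace N) := fun n =>
    ⟨n.2, -(n : M), (MagnetAtlas.unitGroup N).neg_mem n.2, add_neg_cancel _⟩
  have hps : (attrToX a (unitFace (unitFace N))).app (op Z0)
      ((attrFace a (isFace_unitFace (unitFace N))).app (op Z0) v0) = ps :=
    (attrToX_attrFace a v0 (toUnit Z0 ≫ η[AMonS S (unitFace N)]) (fun n _ => co_one n)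
      (fun n hn => absurd (hunit n.toAdd) hn)).symm
  have hrf : Set.range f.left = (V : Set _) := V.range_ι
  rw [hps, hrf] at hr0
  rw [hlim, hrf] at hrN
  obtain ⟨U, hU, hzU, -⟩ := exists_isAffineOpen_mem_and_subset (U := (⊤ : S.Opens)) (x := Z0.hom z) trivial
  let W : Z0.left.Opens := ps.left ⁻¹ᵁ V ⊓ Z0.hom ⁻¹ᵁ U
  have hWeq : k0.left ''ᵁ (ZV0.hom ⁻¹ᵁ U) = W := by
    ext w
    constructor
    · rintro ⟨q, hq, rfl⟩
      refine ⟨(Set.ext_iff.1 hr0 _).1 ⟨q, rfl⟩, ?_⟩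
      show Z0.hom (k0.left q) ∈ U
      rw [← Scheme.Hom.comp_apply, Over.w]
      exact hq
    · rintro ⟨hw, hwU⟩
      obtain ⟨q, rfl⟩ := (Set.ext_iff.1 hr0 w).2 hw
      refine ⟨q, ?_, rfl⟩
      show ZV0.hom q ∈ U
      rw [← Over.w k0, Scheme.Hom.comp_apply]
      exact hwU
  have hW : IsAffineOpen W := hWeq ▸ (hU.preimage ZV0.hom).image_of_isOpenImmersion k0.left
  have hW'eq : kN.left ''ᵁ (ZV.hom ⁻¹ᵁ U) = j.left ⁻¹ᵁ W := by
    ext w
    constructor
    · rintro ⟨q, hq, rfl⟩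
      refine ⟨(Set.ext_iff.1 hrN _).1 ⟨q, rfl⟩, ?_⟩
      show Z0.hom (j.left (kN.left q)) ∈ U
      rw [← Scheme.Hom.comp_apply, ← Scheme.Hom.comp_apply, Over.w, Over.w]
      exact hq
    · rintro ⟨hw, hwU⟩
      obtain ⟨q, rfl⟩ := (Set.ext_iff.1 hrN w).2 hw
      refine ⟨q, ?_, rfl⟩
      show ZV.hom q ∈ U
      rw [← Over.w kN, ← Over.w j, Scheme.Hom.comp_apply, Scheme.Hom.comp_apply]
      exact hwU
  have hW' : IsAffineOpen (j.left ⁻¹ᵁ W) := hW'eq ▸ (hU.preimage ZV.hom).image_of_isOpenImmersion kN.left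
  refine ⟨W, hW, ⟨hxV, hzU⟩, ?_⟩
  obtain ⟨P, _, _, nZ, s, eP, hsharp, hsj, hnj, hjs, hone, hassoc⟩ := exists_action a N eN e0 j hj
  -- restriction to the affine open subscheme
  let T : Over S := Over.mk ((j.left ⁻¹ᵁ W).ι ≫ ZN.hom)
  let Ws : Over S := Over.mk (W.ι ≫ Z0.hom)
  let iT : T ⟶ ZN := Over.homMk (j.left ⁻¹ᵁ W).ι rfl
  let iW : Ws ⟶ Z0 := Over.homMk W.ι rfl
  haveI : IsAffine T.left := hW'
  haveI : Mono iT := (Over.forget S).mono_of_mono_map (inferInstanceAs (Mono (j.left ⁻¹ᵁ W).ι))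
  haveI : Mono iW := (Over.forget S).mono_of_mono_map (inferInstanceAs (Mono W.ι))
  have hrn : Set.range ((AMonS S P ◁ iT) ≫ nZ).left ⊆ Set.range (j.left ⁻¹ᵁ W).ι := by
    rw [Scheme.Opens.range_ι]
    rintro _ ⟨p, rfl⟩
    show j.left (((AMonS S P ◁ iT) ≫ nZ).left p) ∈ W
    rw [← Scheme.Hom.comp_apply, ← Over.comp_left, Category.assoc, hnj, whiskerLeft_snd_assoc]
    exact ((snd (AMonS S P) T).left p).2
  let nT : AMonS S P ⊗ T ⟶ T := Over.homMk (IsOpenImmersion.lift (j.left ⁻¹ᵁ W).ι _ hrn) (by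
    show _ ≫ (j.left ⁻¹ᵁ W).ι ≫ ZN.hom = _
    rw [IsOpenImmersion.lift_fac_assoc]; exact Over.w _)
  have hnT : nT ≫ iT = (AMonS S P ◁ iT) ≫ nZ := Over.OverMorphism.ext (IsOpenImmersion.lift_fac _ _ hrn)
  let jT : T ⟶ Ws := Over.homMk (j.left ∣_ W) (by
    show (j.left ∣_ W) ≫ W.ι ≫ Z0.hom = (j.left ⁻¹ᵁ W).ι ≫ ZN.hom
    rw [morphismRestrict_ι_assoc, Over.w])
  have hjT : jT ≫ iW = iT ≫ j := Over.OverMorphism.ext (morphismRestrict_ι j.left W)
  have hrs : Set.range (iW ≫ s).left ⊆ Set.range (j.left ⁻¹ᵁ W).ι := by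
    rw [Scheme.Opens.range_ι]
    rintro _ ⟨p, rfl⟩
    show j.left ((iW ≫ s).left p) ∈ W
    rw [← Scheme.Hom.comp_apply, ← Over.comp_left, Category.assoc, hsj, Category.comp_id]
    exact p.2
  let sT : Ws ⟶ T := Over.homMk (IsOpenImmersion.lift (j.left ⁻¹ᵁ W).ι _ hrs) (by
    show _ ≫ (j.left ⁻¹ᵁ W).ι ≫ ZN.hom = _
    rw [IsOpenImmersion.lift_fac_assoc]; exact Over.w _)
  have hsT : sT ≫ iT = iW ≫ s := Over.OverMorphism.ext (IsOpenImmersion.lift_fac _ _ hrs)
  have hsjT : sT ≫ jT = 𝟙 Ws := by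
    rw [← cancel_mono iW, Category.assoc, hjT, reassoc_of% hsT, hsj, Category.comp_id, Category.id_comp]
  have hnjT : nT ≫ jT = snd (AMonS S P) T ≫ jT := by
    rw [← cancel_mono iW, Category.assoc, Category.assoc, hjT, reassoc_of% hnT, hnj, whiskerLeft_snd_assoc]
  have hjsT : jT ≫ sT = lift (iT ≫ eP) (𝟙 T) ≫ nT := by
    rw [← cancel_mono iT, Category.assoc, hsT, reassoc_of% hjT, hjs, Category.assoc, hnT, comp_lift_assoc,
      lift_whiskerLeft_assoc, Category.comp_id, Category.id_comp]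
  -- the affine base
  have hrU : Set.range T.hom ⊆ Set.range U.ι := by
    rw [Scheme.Opens.range_ι]
    rintro _ ⟨p, rfl⟩
    show ZN.hom (((j.left ⁻¹ᵁ W).ι) p) ∈ U
    rw [← Over.w j, Scheme.Hom.comp_apply]
    exact p.2.2
  let tU : T.left ⟶ U := IsOpenImmersion.lift U.ι T.hom hrU
  have htU : tU ≫ U.ι = T.hom := IsOpenImmersion.lift_fac _ _ _
  haveI : IsAffine U := hU
  haveI : Smooth ZN.hom := by
    haveI : Smooth (toUnit X).left := by rw [Over.toUnit_left]; exact ‹Smooth X.hom›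
    let e1 : (attr (MonAct.trivial (AMonS S M) (𝟙_ (Over S))) N).RepresentableBy (𝟙_ (Over S)) :=
      { homEquiv := fun {T} =>
          { toFun := fun _ => ⟨toUnit _, MagnetLift.isEquivariant_toUnit _⟩
            invFun := fun _ => toUnit T
            left_inv := fun _ => toUnit_unique _ _
            right_inv := fun _ => Subtype.ext (toUnit_unique _ _) }
        homEquiv_comp := fun _ _ => Subtype.ext (toUnit_unique _ _) }
    have h := MagnetLift.smooth_attr_postcomp a _ (toUnit X) (MagnetLift.isEquivariant_toUnit a) eN e1 (toUnit ZN)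
      fun T z => Subtype.ext (toUnit_unique _ _)
    rwa [Over.toUnit_left] at h
  haveI : Smooth (tU ≫ U.ι) := by
    rw [htU]
    exact inferInstanceAs (Smooth ((j.left ⁻¹ᵁ W).ι ≫ ZN.hom))
  haveI : Smooth tU := MorphismProperty.of_postcomp (W := @Smooth) (W' := @IsOpenImmersion) tU U.ι
    inferInstance inferInstance
  letI : Algebra Γ(U, ⊤) Γ(T.left, ⊤) := tU.appTop.hom.toAlgebra
  haveI : Algebra.Smooth Γ(U, ⊤) Γ(T.left, ⊤) :=
    RingHom.smooth_algebraMap.1 ((HasRingHomProperty.iff_of_isAffine (P := @Smooth)).1 (inferInstanceAs (Smooth tU)))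
  have hnU : nT.left ≫ tU = (snd (AMonS S P) T).left ≫ tU := by
    rw [← cancel_mono U.ι, Category.assoc, Category.assoc, htU, Over.w, Over.w]
  obtain ⟨A₀, hA₀, Q, _, _, hQf, hQp, ⟨ε⟩⟩ := exists_sym_of_action hsharp T nT
    (by rw [← cancel_mono iT, Category.assoc, hnT, lift_whiskerLeft_assoc, Category.id_comp, hone])
    (fun W' x y t => by
      rw [← cancel_mono iT, Category.assoc, Category.assoc, hnT, lift_whiskerLeft_assoc, lift_whiskerLeft_assoc,
        Category.assoc, hnT, lift_whiskerLeft_assoc, hassoc])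
    Γ(U, ⊤) (fun r => by
      show (tU.appTop ≫ nT.left.appTop).hom r = (tU.appTop ≫ (snd (AMonS S P) T).left.appTop).hom r
      rw [← Scheme.Hom.comp_appTop, ← Scheme.Hom.comp_appTop, hnU])
  -- degree zero is the base
  let φ : Γ(Z0.left, W) →+* Γ(T.left, ⊤) := (W.topIso.inv ≫ jT.left.appTop).hom
  have hφ : ∀ b, φ b ∈ A₀ := fun b => by
    rw [hA₀]
    exact congrArg (fun g : AMonS S P ⊗ T ⟶ Ws => g.left.appTop.hom (W.topIso.inv b)) hnjT
  have hinj : Function.Injective φ := by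
    intro b b' h
    have h' := congrArg sT.left.appTop.hom h
    have e : ∀ c, sT.left.appTop.hom (jT.left.appTop.hom c) = c := fun c =>
      (congrArg (fun g : Ws ⟶ Ws => g.left.appTop.hom c) hsjT).trans (by
        rw [Over.id_left, Scheme.Hom.id_appTop]; rfl)
    change sT.left.appTop.hom (jT.left.appTop.hom _) = sT.left.appTop.hom (jT.left.appTop.hom _) at h'
    rw [e, e] at h'
    exact W.topIso.commRingCatIsoToRingEquiv.symm.injective h'
  have hsurj : ∀ c ∈ A₀, ∃ b, φ b = c := by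
    intro c hc
    refine ⟨W.topIso.hom (sT.left.appTop.hom c), ?_⟩
    show jT.left.appTop.hom (W.topIso.inv (W.topIso.hom (sT.left.appTop.hom c))) = c
    rw [W.topIso.hom_inv_id_apply]
    refine (congrArg (fun g : T ⟶ T => g.left.appTop.hom c) hjsT).trans ?_
    show (lift (iT ≫ eP) (𝟙 T)).left.appTop.hom (nT.left.appTop.hom c) = c
    rw [(hA₀ c).1 hc]
    show (lift (iT ≫ eP) (𝟙 T) ≫ snd _ _).left.appTop.hom c = c
    rw [lift_snd, Over.id_left, Scheme.Hom.id_appTop]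
    rfl
  let ψ : Γ(Z0.left, W) ≃+* A₀ := RingEquiv.ofBijective (φ.codRestrict A₀ hφ)
    ⟨fun b b' h => hinj (congrArg Subtype.val h), fun c => (hsurj c c.2).imp fun b hb => Subtype.ext hb⟩
  haveI := hQf
  haveI := hQp
  obtain ⟨P', _, _, hPf, hPp, g, hg⟩ := exists_sym_transport ψ φ (fun b => rfl) Q ε
  let Φ : Γ(T.left, ⊤) ≅ CommRingCat.of (SymmetricAlgebra Γ(Z0.left, W) P') := g.toCommRingCatIso
  refine ⟨P', _, _, hPf, hPp, T.left.isoSpec ≪≫ Scheme.Spec.mapIso Φ.symm.op, ?_⟩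
  have hΦ : (W.topIso.inv ≫ jT.left.appTop) ≫ Φ.hom =
      CommRingCat.ofHom (algebraMap Γ(Z0.left, W) (SymmetricAlgebra Γ(Z0.left, W) P')) :=
    CommRingCat.hom_ext (RingHom.ext hg)
  show (T.left.isoSpec.hom ≫ Spec.map Φ.inv) ≫ _ = _
  rw [← hΦ, Category.assoc, ← Spec.map_comp, Category.assoc, Iso.hom_inv_id, Category.comp_id, Spec.map_comp,
    ← Category.assoc]
  haveI : IsAffine Ws.left := hW
  erw [Scheme.isoSpec_hom_naturality jT.left]
  rw [Category.assoc]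
  rfl

end Groth.Agent.MagnetBundle
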