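import Groth.Agent.MagnetPts
import Groth.Prelude.Def_Magnet4

/-!
# The action of the monoid of a magnet on its attractor
-/

set_option autoImplicit false
set_option backward.isDefEq.respectTransparency false
set_option backward.isDefEq.respectTransparency.types false
set_option linter.style.haveILetI false
set_option maxHeartbeats 1000000
set_option synthInstance.maxHeartbeats 100000

universe u

open CategoryTheory CategoryTheory.Limits MonoidalCategory CartesianMonoidalCategory AlgebraicGeometry Opposite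
open scoped MonObj
open Magnet

namespace Groth.Agent.MagnetBundle

open Groth.Agent.MagnetPts

variable {S : Scheme.{u}} {M : Type} [AddCommMonoid M] {X : Over S} (a : MonAct (AMonS S M) X) {N F : AddSubmonoid M}

/-- A family of equivariant maps, precomposed with a translation of the monoid. -/
noncomputable def scale {T : Over S} (y : T ⟶ AMonS S N) (φ : (attr a N).obj (op T)) : (attr a N).obj (op T) :=
  ⟨lift (fst (AMonS S N) T * (snd (AMonS S N) T ≫ y)) (snd (AMonS S N) T) ≫ φ.1, by
    rw [MonAct.mem_eqvHom_iff]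
    intro T' g b t
    have h := (MonAct.mem_eqvHom_iff φ.1).1 φ.2 T' g (b * (t ≫ y)) t
    simp only [subAct, MonAct.lift_restrict_act, MonAct.lift_regular_act] at h ⊢
    simp only [comp_lift_assoc, MonObj.comp_mul, lift_fst, lift_snd, lift_fst_assoc, lift_snd_assoc, mul_assoc] at h ⊢
    exact h⟩

theorem map_scale {T T' : Over S} (t : T' ⟶ T) (y : T ⟶ AMonS S N) (φ : (attr a N).obj (op T)) :
    (attr a N).map t.op (scale a y φ) = scale a (t ≫ y) ((attr a N).map t.op φ) := by
  refine Subtype.ext ?_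
  show (AMonS S N ◁ t) ≫ lift _ _ ≫ φ.1 = lift _ _ ≫ (AMonS S N ◁ t) ≫ φ.1
  simp only [comp_lift_assoc, MonObj.comp_mul, lift_whiskerLeft_assoc, whiskerLeft_fst, whiskerLeft_snd,
    whiskerLeft_snd_assoc]

theorem scale_one {T : Over S} (φ : (attr a N).obj (op T)) : scale a (toUnit T ≫ η[AMonS S N]) φ = φ := by
  refine Subtype.ext ?_
  show lift _ _ ≫ φ.1 = φ.1
  rw [← Category.assoc (snd (AMonS S N) T), comp_toUnit, ← Hom.one_def, mul_one, lift_fst_snd, Category.id_comp]

theorem scale_scale {T : Over S} (y y' : T ⟶ AMonS S N) (φ : (attr a N).obj (op T)) :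
    scale a y (scale a y' φ) = scale a (y * y') φ := by
  refine Subtype.ext ?_
  show lift _ _ ≫ lift _ _ ≫ φ.1 = lift _ _ ≫ φ.1
  simp only [comp_lift_assoc, MonObj.comp_mul, lift_fst, lift_snd, lift_snd_assoc, mul_assoc]

theorem attrFace_scale (hF : IsFace N F) {T : Over S} (y : T ⟶ AMonS S N)
    (hy : y ≫ AMonS.map S (AddSubmonoid.inclusion hF.le) = toUnit T ≫ η[AMonS S F]) (φ : (attr a N).obj (op T)) :
    (attrFace a hF).app (op T) (scale a y φ) = (attrFace a hF).app (op T) φ := by
  refine Subtype.ext ?_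
  show (AMonS.faceMap S hF ▷ T) ≫ lift _ _ ≫ φ.1 = (AMonS.faceMap S hF ▷ T) ≫ φ.1
  rw [comp_lift_assoc, MonObj.comp_mul, whiskerRight_fst, whiskerRight_snd, whiskerRight_snd_assoc]
  rw [show (fst (AMonS S F) T ≫ AMonS.faceMap S hF) * (snd (AMonS S F) T ≫ y) =
      fst (AMonS S F) T ≫ AMonS.faceMap S hF from ?_]
  · congr 1
  refine co_ext fun n => ?_
  obtain ⟨m, hm⟩ : ∃ m : N, Multiplicative.ofAdd m = n := ⟨n.toAdd, rfl⟩
  rw [← hm]
  rw [co_mul]
  by_cases hn : (m : M) ∈ F
  · rw [co_comp (snd (AMonS S F) T) y _]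
    have := congrArg (fun z => co z (Multiplicative.ofAdd (⟨_, hn⟩ : F))) hy
    simp only [co_map, co_one] at this
    erw [this]
    rw [map_one, mul_one]
  · rw [co_faceMap_of_notMem hF _ m hn, zero_mul]

theorem attrMap_attrFace (hF : IsFace N F) {T : Over S} (y : T ⟶ AMonS S N)
    (h1 : ∀ n : Multiplicative N, ((n.toAdd : N) : M) ∈ F → co y n = 1)
    (h0 : ∀ n : Multiplicative N, ((n.toAdd : N) : M) ∉ F → co y n = 0) (φ : (attr a N).obj (op T)) :
    (attrMap a hF.le).app (op T) ((attrFace a hF).app (op T) φ) = scale a y φ := by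
  refine Subtype.ext ?_
  show (AMonS.map S (AddSubmonoid.inclusion hF.le) ▷ T) ≫ (AMonS.faceMap S hF ▷ T) ≫ φ.1 = lift _ _ ≫ φ.1
  rw [show lift (fst (AMonS S N) T * (snd (AMonS S N) T ≫ y)) (snd (AMonS S N) T) =
    (AMonS.map S (AddSubmonoid.inclusion hF.le) ▷ T) ≫ (AMonS.faceMap S hF ▷ T) from ?_, Category.assoc]
  ext1
  · simp only [lift_fst, Category.assoc, whiskerRight_fst, whiskerRight_fst_assoc]
    refine co_ext fun n => ?_
    obtain ⟨m, hm⟩ : ∃ m : N, Multiplicative.ofAdd m = n := ⟨n.toAdd, rfl⟩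
    rw [← hm]
    rw [co_mul, co_comp (snd (AMonS S N) T) y _, ← Category.assoc (fst (AMonS S N) T)]
    by_cases hn : (m : M) ∈ F
    · rw [h1 (Multiplicative.ofAdd m) hn, map_one, mul_one, co_faceMap_of_mem hF _ m hn, co_map]
      rfl
    · rw [h0 (Multiplicative.ofAdd m) hn, map_zero, mul_zero, co_faceMap_of_notMem hF _ m hn]
  · simp

end Groth.Agent.MagnetBundle
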